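import Groth.Agent.CalgB.AdicFSExt
import Mathlib.RingTheory.Kaehler.Basic
import Mathlib.RingTheory.Ideal.Cotangent
import Mathlib.LinearAlgebra.Dual.Lemmas
import Mathlib.RingTheory.LocalRing.MaximalIdeal.Basic

/-!
# The Jacobian criterion for adic formal smoothness: the necessity

`injective_of_adic`: if `B → C` is surjective with `C` Noetherian local, adically formally smooth
over `A`, then `κ ⊗ J/J² → κ ⊗ (C ⊗ Ω[B/A])` is injective (`κ` a field over the residue field of
`C`).
-/

set_option autoImplicit false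
universe u

open TensorProduct KaehlerDifferential IsLocalRing

namespace K102.AdicJac

section

variable {A B C : Type u} [CommRing A] [CommRing B] [CommRing C] [Algebra A B] [Algebra B C]
  [Algebra A C] [IsScalarTower A B C] [IsLocalRing C] [IsNoetherianRing C]
  (hsurj : Function.Surjective (algebraMap B C))
  (h : CAlgX.IsAdicFormallySmooth A C (maximalIdeal C))
  {κ : Type u} [Field κ] [Algebra C κ] [Algebra B κ] [Algebra A κ] [IsScalarTower B C κ]
  [IsScalarTower A B κ] (hκ : ∀ x ∈ maximalIdeal C, algebraMap C κ x = 0)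

include hsurj h hκ in
/-- Every `B`-linear map `J → κ` is the restriction of an `A`-derivation `B → κ`. -/
theorem exists_derivation (ℓ : RingHom.ker (algebraMap B C) →ₗ[B] κ) :
    ∃ D : Derivation A B κ, ∀ j : RingHom.ker (algebraMap B C), D j = ℓ j := by
  classical
  let J : Ideal B := RingHom.ker (algebraMap B C)
  -- `B` acts on `κ` through `C`
  have hact : ∀ (b : B) (x : κ), b • x = algebraMap C κ (algebraMap B C b) * x := by
    intro b x
    rw [Algebra.smul_def, IsScalarTower.algebraMap_apply B C κ]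
  have hJact : ∀ j ∈ J, ∀ x : κ, j • x = 0 := by
    intro j hj x
    rw [hact, (RingHom.mem_ker).mp hj, map_zero, zero_mul]
  let N : Ideal B := (LinearMap.ker ℓ).map J.subtype
  have hNmem : ∀ b : B, b ∈ N ↔ ∃ hb : b ∈ J, ℓ ⟨b, hb⟩ = 0 := by
    intro b
    constructor
    · rintro ⟨⟨x, hx⟩, hx', rfl⟩
      exact ⟨hx, hx'⟩
    · rintro ⟨hb, hb'⟩
      exact ⟨⟨b, hb⟩, hb', rfl⟩
  have hNJ : N ≤ J := fun b hb => ((hNmem b).mp hb).1
  let π : B ⧸ N →ₐ[A] C := Ideal.Quotient.liftₐ N (IsScalarTower.toAlgHom A B C)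
    (fun a ha => hNJ ha)
  have hπmk : ∀ b : B, π (Ideal.Quotient.mk N b) = algebraMap B C b := fun b => rfl
  have hπ : Function.Surjective π := by
    intro c
    obtain ⟨b, rfl⟩ := hsurj c
    exact ⟨Ideal.Quotient.mk N b, rfl⟩
  have hkerπ : ∀ x ∈ RingHom.ker π, ∃ j : J, Ideal.Quotient.mk N (j : B) = x := by
    intro x hx
    obtain ⟨b, rfl⟩ := Ideal.Quotient.mk_surjective x
    exact ⟨⟨b, hx⟩, rfl⟩
  have hker1 : ∀ b : B, algebraMap B C b ∈ maximalIdeal C → ∀ j : J, b * (j : B) ∈ N := by
    intro b hb j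
    rw [hNmem]
    refine ⟨J.mul_mem_left _ j.2, ?_⟩
    have : (⟨b * (j : B), J.mul_mem_left _ j.2⟩ : J) = b • j := rfl
    rw [this, map_smul, hact, hκ _ hb, zero_mul]
  have hn : (((maximalIdeal C).comap π) ^ 1) * RingHom.ker π = ⊥ := by
    rw [pow_one, eq_bot_iff, Ideal.mul_le]
    intro x hx y hy
    obtain ⟨b, rfl⟩ := Ideal.Quotient.mk_surjective x
    obtain ⟨j, rfl⟩ := hkerπ y hy
    rw [← map_mul, Submodule.mem_bot, Ideal.Quotient.eq_zero_iff_mem]
    exact hker1 b hx j
  have hle : RingHom.ker π ≤ (maximalIdeal C).comap π := by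
    intro x hx
    have h1 : π x = 0 := hx
    rw [Ideal.mem_comap, h1]
    exact zero_mem _
  have hker2 : RingHom.ker π ^ 2 = ⊥ := by
    rw [eq_bot_iff, pow_two, ← hn, pow_one]
    exact Ideal.mul_mono_left hle
  obtain ⟨s, hs⟩ := Groth.Agent.CalgB.AdicFSExt.AdicFS.exists_section (R := A) (S := C)
    (n := maximalIdeal C) h π hπ hker2 ⟨1, hn⟩
  have hs' : ∀ c, π (s c) = c := fun c => DFunLike.congr_fun hs c
  have hex : ∀ b : B, ∃ j : J, Ideal.Quotient.mk N (j : B) =
      Ideal.Quotient.mk N b - s (algebraMap B C b) := by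
    intro b
    refine hkerπ _ ?_
    rw [RingHom.mem_ker, map_sub, hs', hπmk, sub_self]
  choose r hr using hex
  -- uniqueness of the value
  have huniq : ∀ (b : B) (j : J), Ideal.Quotient.mk N (j : B) =
      Ideal.Quotient.mk N b - s (algebraMap B C b) → ℓ (r b) = ℓ j := by
    intro b j hj
    rw [← sub_eq_zero, ← map_sub]
    have h1 : Ideal.Quotient.mk N ((r b - j : J) : B) = 0 := by
      have : ((r b - j : J) : B) = (r b : B) - (j : B) := rfl
      rw [this, map_sub, hr, hj, sub_self]
    obtain ⟨_, h2⟩ := (hNmem _).mp (Ideal.Quotient.eq_zero_iff_mem.mp h1)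
    exact h2
  have halg : ∀ (a : A) (b : B), Ideal.Quotient.mk N (a • b) = a • Ideal.Quotient.mk N b :=
    fun a b => rfl
  let L : B →ₗ[A] κ :=
    { toFun := fun b => ℓ (r b)
      map_add' := by
        intro b b'
        rw [← map_add]
        apply huniq
        have : ((r b + r b' : J) : B) = (r b : B) + (r b' : B) := rfl
        rw [this, map_add, hr, hr, map_add, map_add, map_add]
        ring
      map_smul' := by
        intro a b
        have h1 : ℓ (r (a • b)) = ℓ (algebraMap A B a • r b) := by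
          apply huniq
          have : ((algebraMap A B a • r b : J) : B) = algebraMap A B a * (r b : B) := rfl
          rw [this, map_mul, hr, halg]
          have h2 : algebraMap B C (a • b) = a • algebraMap B C b := by
            rw [Algebra.smul_def, map_mul, ← IsScalarTower.algebraMap_apply A B C,
              ← Algebra.smul_def]
          rw [h2, map_smul, ← smul_sub, Algebra.smul_def]
          rfl
        rw [h1, map_smul, algebraMap_smul]
        rfl }
  refine ⟨Derivation.mk' L ?_, ?_⟩
  · intro b b'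
    change ℓ (r (b * b')) = b • ℓ (r b') + b' • ℓ (r b)
    have h1 : ℓ (r (b * b')) = ℓ (b • r b' + b' • r b - (r b' : B) • r b) := by
      apply huniq
      have : ((b • r b' + b' • r b - (r b' : B) • r b : J) : B) =
        b * (r b' : B) + b' * (r b : B) - (r b' : B) * (r b : B) := rfl
      rw [this, map_sub, map_add, map_mul, map_mul, map_mul, hr, hr, map_mul, map_mul, map_mul]
      ring
    rw [h1, map_sub, map_add, map_smul, map_smul, map_smul, hJact _ (r b').2, sub_zero]
  · intro j
    change ℓ (r (j : B)) = ℓ j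
    apply huniq
    have h1 : algebraMap B C (j : B) = 0 := j.2
    rw [h1, map_zero, sub_zero]

include hsurj h hκ in
theorem injective_of_adic :
    Function.Injective ((kerCotangentToTensor A B C).lTensor κ) := by
  classical
  rw [← LinearMap.ker_eq_bot, LinearMap.ker_eq_bot']
  intro v hv
  rw [← Module.forall_dual_apply_eq_zero_iff κ]
  intro f
  let ℓ : RingHom.ker (algebraMap B C) →ₗ[B] κ :=
    (f.restrictScalars B ∘ₗ TensorProduct.mk B κ (RingHom.ker (algebraMap B C)).Cotangent 1) ∘ₗ
      (RingHom.ker (algebraMap B C)).toCotangent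
  obtain ⟨D, hD⟩ := exists_derivation (A := A) (B := B) (C := C) hsurj h hκ ℓ
  let μ₁ : C ⊗[B] Ω[B⁄A] →ₗ[C] κ := LinearMap.liftBaseChange C D.liftKaehlerDifferential
  let μ : κ ⊗[B] (C ⊗[B] Ω[B⁄A]) →ₗ[κ] κ := LinearMap.liftBaseChange κ (μ₁.restrictScalars B)
  have key : ∀ w : κ ⊗[B] (RingHom.ker (algebraMap B C)).Cotangent,
      μ ((kerCotangentToTensor A B C).lTensor κ w) = f w := by
    intro w
    induction w using TensorProduct.induction_on with
    | zero => rw [map_zero, map_zero, map_zero]
    | add x y hx hy => rw [map_add, map_add, map_add, hx, hy]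
    | tmul k m =>
      obtain ⟨j, rfl⟩ := Ideal.toCotangent_surjective _ m
      rw [LinearMap.lTensor_tmul, kerCotangentToTensor_toCotangent]
      have h1 : μ (k ⊗ₜ[B] ((1 : C) ⊗ₜ[B] KaehlerDifferential.D A B (j : B))) =
          k • ((1 : C) • D (j : B)) := by
        simp [μ, μ₁, LinearMap.liftBaseChange_tmul]
      rw [h1, one_smul, hD]
      have h2 : k ⊗ₜ[B] (RingHom.ker (algebraMap B C)).toCotangent j =
          k • ((1 : κ) ⊗ₜ[B] (RingHom.ker (algebraMap B C)).toCotangent j) := by
        rw [TensorProduct.smul_tmul', smul_eq_mul, mul_one]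
      rw [h2, map_smul]
      rfl
  rw [← key, hv, map_zero]

end

end K102.AdicJac
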