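import Groth.Agent.Ega41.FieldFS
import Mathlib.LinearAlgebra.TensorProduct.Basis

/-!
# Injectivity of relative differentials under adic formal smoothness

* `injective_of_isAdicFormallySmooth`: if `A` is local and adically formally smooth over `k`, then
  `K ⊗ Ω_{k/R} → K ⊗ Ω_{A/R}` is injective for every `R → k`.
* `eq_zero_of_forall_lTensor`: a separating family of linear maps stays separating after tensoring with a vector
  space.
-/

set_option autoImplicit false
universe u v

namespace K102.FieldInj

open TensorProduct IsLocalRing Groth.Agent.Ega41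

/-- If `A` is adically formally smooth over `k`, then `K ⊗ Ω_{k/R} → K ⊗ Ω_{A/R}` is injective. -/
theorem injective_of_isAdicFormallySmooth (R : Type u) {k A : Type u} [CommRing R] [CommRing k] [CommRing A]
    [IsLocalRing A] [Algebra R k] [Algebra k A] [Algebra R A] [IsScalarTower R k A]
    (h : CAlgX.IsAdicFormallySmooth k A (maximalIdeal A)) :
    Function.Injective ((KaehlerDifferential.mapBaseChange R k A).lTensor (ResidueField A)) := by
  let K := ResidueField A
  let Φ : K ⊗[A] (A ⊗[k] Ω[k⁄R]) →ₗ[K] K ⊗[A] Ω[A⁄R] := (KaehlerDifferential.mapBaseChange R k A).baseChange K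
  suffices hΦ : Function.Injective Φ from hΦ
  rw [injective_iff_map_eq_zero]
  intro t ht
  rw [← Module.forall_dual_apply_eq_zero_iff K]
  intro φ
  let D : Derivation R k K :=
    (((φ.restrictScalars k).comp ((TensorProduct.mk A K (A ⊗[k] Ω[k⁄R]) 1).restrictScalars k)).comp
      (TensorProduct.mk k A (Ω[k⁄R]) 1)).compDer (KaehlerDifferential.D R k)
  have hD : ∀ x, D x = φ ((1 : K) ⊗ₜ[A] ((1 : A) ⊗ₜ[k] KaehlerDifferential.D R k x)) := fun x => rfl
  let C := TrivExt.Ext K K
  let f : k →+* C := TrivExt.Ext.lift (algebraMap k K) (D : k →ₗ[R] K).toAddMonoidHom (by simp)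
    (fun a b => by simp [Algebra.smul_def])
  let _ : Algebra k C := f.toAlgebra
  let q : C →ₐ[k] K := { TrivExt.Ext.proj with commutes' := fun x => rfl }
  obtain ⟨v, hv⟩ := AdicRed.exists_lift' h q TrivExt.Ext.proj_surjective ⟨2, TrivExt.Ext.ker_proj_sq⟩
    (IsScalarTower.toAlgHom k A K) ⟨1, fun x hx => by
      rw [pow_one] at hx
      exact (residue_eq_zero_iff x).mpr hx⟩
  have hv1 : ∀ a, (v a).fst = algebraMap A K a := fun a => DFunLike.congr_fun hv a
  have hv2 : ∀ x : k, (v (algebraMap k A x)).snd = D x := fun x => by
    rw [AlgHom.commutes]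
    rfl
  have hmul : ∀ a b : A, (v (a * b)).snd = a • (v b).snd + b • (v a).snd := fun a b => by
    rw [map_mul, TrivExt.Ext.snd_mul, hv1, hv1, Algebra.smul_def, Algebra.smul_def]
    rfl
  let D' : Derivation R A K := Derivation.mk'
    { toFun := fun a => (v a).snd
      map_add' := fun a b => by rw [map_add]; rfl
      map_smul' := fun r a => by
        rw [Algebra.smul_def, IsScalarTower.algebraMap_apply R k A, hmul, hv2,
          Derivation.map_algebraMap, smul_zero, add_zero, RingHom.id_apply, algebraMap_smul,
          algebraMap_smul] }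
    hmul
  let ψ : K ⊗[A] Ω[A⁄R] →ₗ[K] K := D'.liftKaehlerDifferential.liftBaseChange K
  have key : ψ.comp Φ = φ := by
    apply LinearMap.ext
    intro z
    induction z using TensorProduct.induction_on with
    | zero => simp
    | add x y hx hy => simp only [map_add, hx, hy]
    | tmul a y =>
      induction y using TensorProduct.induction_on with
      | zero => simp
      | add x y hx hy => simp only [TensorProduct.tmul_add, map_add, hx, hy]
      | tmul b ω =>
        have hω : ω ∈ Submodule.span k (Set.range (KaehlerDifferential.D R k)) := by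
          rw [KaehlerDifferential.span_range_derivation]; trivial
        induction hω using Submodule.span_induction with
        | mem ω hω =>
          obtain ⟨x, rfl⟩ := hω
          have e1 : (a ⊗ₜ[A] (b ⊗ₜ[k] KaehlerDifferential.D R k x) : K ⊗[A] (A ⊗[k] Ω[k⁄R])) =
              (a * algebraMap A K b) • ((1 : K) ⊗ₜ[A] ((1 : A) ⊗ₜ[k] KaehlerDifferential.D R k x)) := by
            rw [TensorProduct.smul_tmul', smul_eq_mul, mul_one]
            have : (b ⊗ₜ[k] KaehlerDifferential.D R k x : A ⊗[k] Ω[k⁄R]) =
                b • ((1 : A) ⊗ₜ[k] KaehlerDifferential.D R k x) := by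
              rw [TensorProduct.smul_tmul', smul_eq_mul, mul_one]
            rw [this, ← TensorProduct.smul_tmul, Algebra.smul_def, mul_comm]
          rw [e1, map_smul, map_smul, ← hD]
          congr 1
          have h5 : Φ ((1 : K) ⊗ₜ[A] ((1 : A) ⊗ₜ[k] KaehlerDifferential.D R k x)) =
              (1 : K) ⊗ₜ[A] KaehlerDifferential.D R A (algebraMap k A x) := by
            simp only [Φ, LinearMap.baseChange_tmul, KaehlerDifferential.mapBaseChange_tmul,
              KaehlerDifferential.map_D, one_smul]
          rw [LinearMap.comp_apply, h5]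
          simp only [ψ, LinearMap.liftBaseChange_tmul, one_smul, Derivation.liftKaehlerDifferential_comp_D]
          exact hv2 x
        | zero => simp
        | add x y _ _ hx hy => simp only [TensorProduct.tmul_add, map_add, hx, hy]
        | smul c x _ hx =>
          have : (a ⊗ₜ[A] (b ⊗ₜ[k] (c • x)) : K ⊗[A] (A ⊗[k] Ω[k⁄R])) =
              (algebraMap A K (algebraMap k A c)) • (a ⊗ₜ[A] (b ⊗ₜ[k] x)) := by
            rw [TensorProduct.tmul_smul, ← algebraMap_smul A c (b ⊗ₜ[k] x), TensorProduct.tmul_smul,
              ← algebraMap_smul K (algebraMap k A c) (a ⊗ₜ[A] (b ⊗ₜ[k] x))]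
          rw [this, map_smul, map_smul, hx]
  rw [← key, LinearMap.comp_apply, ht, map_zero]

/-- Coordinates of `lTensor`. -/
theorem equivFinsupp_lTensor {k V M N ι : Type*} [Field k] [AddCommGroup V] [Module k V] [AddCommGroup M]
    [Module k M] [AddCommGroup N] [Module k N] [DecidableEq ι] (b : Module.Basis ι k V) (f : M →ₗ[k] N)
    (x : V ⊗[k] M) (j : ι) :
    TensorProduct.equivFinsuppOfBasisLeft b (f.lTensor V x) j =
      f (TensorProduct.equivFinsuppOfBasisLeft b x j) := by
  induction x using TensorProduct.induction_on with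
  | zero => simp
  | add x y hx hy => simp only [map_add, Finsupp.add_apply, hx, hy]
  | tmul v m => simp

/-- A separating family stays separating after tensoring with a vector space. -/
theorem eq_zero_of_forall_lTensor {k V M I : Type*} [Field k] [AddCommGroup V] [Module k V] [AddCommGroup M]
    [Module k M] (N : I → Type*) [∀ i, AddCommGroup (N i)] [∀ i, Module k (N i)] (f : ∀ i, M →ₗ[k] N i)
    (hf : ∀ m, (∀ i, f i m = 0) → m = 0) (x : V ⊗[k] M) (hx : ∀ i, (f i).lTensor V x = 0) : x = 0 := by
  classical
  let b := Module.Basis.ofVectorSpace k V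
  apply (TensorProduct.equivFinsuppOfBasisLeft (N := M) b).injective
  rw [map_zero]
  ext j
  refine hf _ fun i => ?_
  rw [← equivFinsupp_lTensor, hx, map_zero]
  rfl

/-- The same with coefficients extended in two steps. -/
theorem eq_zero_of_forall_lTensor_lTensor {k A V M I : Type*} [Field k] [CommRing A] [Algebra k A]
    [AddCommGroup V] [Module k V] [Module A V] [IsScalarTower k A V] [AddCommGroup M]
    [Module k M] (N : I → Type*) [∀ i, AddCommGroup (N i)] [∀ i, Module k (N i)] (f : ∀ i, M →ₗ[k] N i)
    (hf : ∀ m, (∀ i, f i m = 0) → m = 0) (x : V ⊗[A] (A ⊗[k] M))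
    (hx : ∀ i, ((f i).baseChange A).lTensor V x = 0) : x = 0 := by
  apply (AlgebraTensorModule.cancelBaseChange k A A V M).injective
  rw [map_zero]
  refine eq_zero_of_forall_lTensor N f hf _ fun i => ?_
  have h : ∀ x : V ⊗[A] (A ⊗[k] M), (f i).lTensor V (AlgebraTensorModule.cancelBaseChange k A A V M x) =
      AlgebraTensorModule.cancelBaseChange k A A V (N i) (((f i).baseChange A).lTensor V x) := by
    intro x
    induction x using TensorProduct.induction_on with
    | zero => simp only [map_zero]
    | add x y hx hy => simp only [map_add, hx, hy]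
    | tmul v y =>
      induction y using TensorProduct.induction_on with
      | zero => simp only [map_zero, TensorProduct.tmul_zero]
      | add x y hx hy => simp only [TensorProduct.tmul_add, map_add, hx, hy]
      | tmul a m =>
        rw [AlgebraTensorModule.cancelBaseChange_tmul, LinearMap.lTensor_tmul, LinearMap.lTensor_tmul,
          LinearMap.baseChange_tmul, AlgebraTensorModule.cancelBaseChange_tmul]
  rw [h, hx, map_zero]

end K102.FieldInj
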