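import Groth.Agent.CalgB.FormalFibre3
import Groth.Agent.CalgB.AdicRegField

/-!
# Generic formal fibres in characteristic zero

For `A` a regular local ring of characteristic zero, `B` a domain finite over `A` with fraction field `L` and
`p` a prime of `B`, the ring `L ⊗[B] (B_p)^` is regular, and so is every local ring of `(B_p)^` at a prime
lying over `0` of `B`.
-/

set_option autoImplicit false

universe u

open TensorProduct IsLocalRing

namespace K102.GenFib

open Groth.Agent.CalgB Groth.Agent.CalgB.CplFiniteLocal

theorem isRegularRing_genericFibre_regular {A : Type u} [CommRing A] [IsDomain A] [IsRegularLocalRing A]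
    [CharZero A] (P : Ideal A) [P.IsPrime]
    (K : Type u) [Field K] [Algebra A K] [IsFractionRing A K]
    (L : Type u) [Field L] [Algebra K L] [Algebra A L] [IsScalarTower A K L]
    [FiniteDimensional K L] : IsRegularRing (L ⊗[A] Cpl P) := by
  have hR : IsRegularLocalRing (Localization.AtPrime P) := Groth.Agent.S0564.result A P
  have hC : IsRegularLocalRing (Cpl P) :=
    (Groth.Agent.S0548.result (Localization.AtPrime P)).mp hR
  have hC' : IsRegularRing (Cpl P) := FormalFibre2.isRegularRing_of_isRegularLocalRing (Cpl P)
  have hK : IsRegularRing (K ⊗[A] Cpl P) := by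
    have h1 : IsRegularRing (Cpl P ⊗[A] K) :=
      RegDer.isRegularRing_of_isLocalization (S := Cpl P) (T := Cpl P ⊗[A] K)
        (Algebra.algebraMapSubmonoid (Cpl P) (nonZeroDivisors A))
    exact IsRegularRing.of_ringEquiv (R := Cpl P ⊗[A] K)
      (Algebra.TensorProduct.comm A (Cpl P) K).toRingEquiv
  have : CharZero K := charZero_of_injective_algebraMap (IsFractionRing.injective A K)
  exact FormalFibre2.isRegularRing_of_separable (F := K) (E := L) hK

theorem isRegularRing_genericFibre_finite {A B : Type u} [CommRing A] [IsDomain A] [IsRegularLocalRing A]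
    [CharZero A] [CommRing B] [IsDomain B] [Algebra A B] [Module.Finite A B]
    (hinj : Function.Injective (algebraMap A B)) (p : Ideal B) [p.IsPrime]
    (L : Type u) [Field L] [Algebra B L] [IsFractionRing B L] :
    IsRegularRing (L ⊗[B] Cpl p) := by
  have hB : IsNoetherianRing B := IsNoetherianRing.of_finite A B
  have : FaithfulSMul A B := (faithfulSMul_iff_algebraMap_injective A B).mpr hinj
  let _ : Algebra A L := ((algebraMap B L).comp (algebraMap A B)).toAlgebra
  have : IsScalarTower A B L := .of_algebraMap_eq fun _ => rfl
  have hAL : Function.Injective (algebraMap A L) :=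
    (IsFractionRing.injective B L).comp hinj
  let _ : Algebra (FractionRing A) L := (IsFractionRing.lift hAL).toAlgebra
  have : IsScalarTower A (FractionRing A) L :=
    .of_algebraMap_eq fun a => (IsFractionRing.lift_algebraMap hAL a).symm
  have : FiniteDimensional (FractionRing A) L := .of_isLocalization A B (nonZeroDivisors A)
  have h1 := isRegularRing_genericFibre_regular (A := A) (p.comap (algebraMap A B)) (FractionRing A) L
  exact RegTensorQuot.isRegularRing_of_baseChange (CplFiniteFlat.psi (B := B) (cplHom (A := A) p))
    (psi_surjective p) (psi_flat p) h1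

/-- The local ring of `C` at a prime over the generic point of `B` is a local ring of the generic fibre. -/
theorem isRegularLocalRing_atPrime {B C : Type u} [CommRing B] [IsDomain B] [CommRing C] [Algebra B C]
    (L : Type u) [Field L] [Algebra B L] [IsFractionRing B L] (h : IsRegularRing (L ⊗[B] C))
    (q : Ideal C) [q.IsPrime] (hq : q.comap (algebraMap B C) = ⊥) :
    IsRegularLocalRing (Localization.AtPrime q) := by
  let M : Submonoid C := Algebra.algebraMapSubmonoid C (nonZeroDivisors B)
  have h' : IsRegularRing (C ⊗[B] L) :=
    IsRegularRing.of_ringEquiv (R := L ⊗[B] C) (Algebra.TensorProduct.comm B L C).toRingEquiv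
  have hloc : IsLocalization M (C ⊗[B] L) := inferInstance
  have hdisj : Disjoint (M : Set C) (q : Set C) := by
    rw [Set.disjoint_left]
    rintro _ ⟨b, hb, rfl⟩ hbq
    have : b ∈ q.comap (algebraMap B C) := hbq
    rw [hq] at this
    exact nonZeroDivisors.ne_zero hb this
  let q' := q.map (algebraMap C (C ⊗[B] L))
  have hq' : q'.IsPrime := IsLocalization.isPrime_of_isPrime_disjoint M _ _ ‹_› hdisj
  have hcomap : q'.under C = q :=
    IsLocalization.under_map_of_isPrime_disjoint M _ ‹_› hdisj
  have : IsLocalization.AtPrime (Localization.AtPrime q') q := by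
    convert IsLocalization.isLocalization_isLocalization_atPrime_isLocalization M
      (Localization.AtPrime q') q'
    exact hcomap.symm
  have h2 : IsRegularLocalRing (Localization.AtPrime q') := inferInstance
  exact IsRegularLocalRing.of_ringEquiv (IsLocalization.algEquiv q.primeCompl
    (Localization.AtPrime q') (Localization.AtPrime q)).toRingEquiv

end K102.GenFib
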