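import Groth.Agent.Ega41.NagZero
import Groth.Agent.FlatA.DimFin
import Mathlib.RingTheory.Localization.Integral
import Mathlib.FieldTheory.Separable
import Mathlib.FieldTheory.Minpoly.Basic

/-!
# Density of the coordinate derivations of a power series ring at a separable prime

`core`: the analogue of `Ega41.NagZero.core` in which characteristic zero is replaced by the
hypothesis that `S/P` is finite over a power series subring, with separable extension of fraction
fields.
-/

set_option autoImplicit false

universe u v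

namespace K102.NagSep

open MvPowerSeries IsLocalRing Groth.Agent Groth.Agent.Ega41 Groth.Agent.Ega41.NagZero

/-- A derivation of a domain over a base with separable fraction field extension vanishes. -/
theorem derivation_eq_zero_of_isSeparable {B A L' L : Type*} [CommRing B] [CommRing A] [IsDomain A]
    [Field L'] [Field L] [Algebra B A] [Algebra B L'] [IsFractionRing B L'] [Algebra A L]
    [IsFractionRing A L] [Algebra L' L] [Algebra B L] [IsScalarTower B A L] [IsScalarTower B L' L]
    [Algebra.IsSeparable L' L] (D : Derivation B A A) (a : A) : D a = 0 := by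
  classical
  have hs : (minpoly L' (algebraMap A L a)).Separable := Algebra.IsSeparable.isSeparable L' _
  set f := minpoly L' (algebraMap A L a) with hf
  have hntB : Nontrivial B := (algebraMap B L').domain_nontrivial
  obtain ⟨b, hbm, hb⟩ := IsLocalization.integerNormalization_spec (nonZeroDivisors B) f
  set g := IsLocalization.integerNormalization (nonZeroDivisors B) f with hg
  have hBL' : Function.Injective (algebraMap B L') := IsFractionRing.injective B L'
  have hAL : Function.Injective (algebraMap A L) := IsFractionRing.injective A L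
  have hb0 : algebraMap B L' b ≠ 0 :=
    IsLocalization.to_map_ne_zero_of_mem_nonZeroDivisors L' (le_refl _) hbm
  have h1 : ∀ p : Polynomial B, algebraMap A L (Polynomial.aeval a p) =
      Polynomial.aeval (algebraMap A L a) (p.map (algebraMap B L')) := by
    intro p
    rw [Polynomial.aeval_map_algebraMap, ← Polynomial.aeval_algebraMap_apply]
  have h2 : Polynomial.aeval a g = 0 := by
    apply hAL
    rw [h1, hb, map_zero, ← algebraMap_smul L' b, map_smul, hf, minpoly.aeval, smul_zero]
  have h3 : Polynomial.aeval a (Polynomial.derivative g) ≠ 0 := by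
    intro h0
    have h4 : algebraMap A L (Polynomial.aeval a (Polynomial.derivative g)) = 0 := by
      rw [h0, map_zero]
    rw [h1, ← Polynomial.derivative_map, hb, ← algebraMap_smul L' b,
      Polynomial.derivative_smul, map_smul, Algebra.smul_def] at h4
    rcases mul_eq_zero.mp h4 with h5 | h5
    · exact hb0 ((algebraMap L' L).injective (h5.trans (map_zero _).symm))
    · exact hs.aeval_derivative_ne_zero (minpoly.aeval _ _) h5
  have h5 := D.map_aeval g a
  rw [h2, map_zero, smul_eq_mul] at h5
  exact (mul_eq_zero.mp h5.symm).resolve_left h3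

variable {K : Type u} [Field K] (n : ℕ)

theorem core {κ : Type u} [Field κ] [Algebra (MvPowerSeries (Fin n) K) κ]
    (hfrac : ∀ x : κ, ∃ a b : MvPowerSeries (Fin n) K, algebraMap _ κ b ≠ 0 ∧
      x * algebraMap _ κ b = algebraMap _ κ a)
    (P : Ideal (MvPowerSeries (Fin n) K)) [P.IsPrime]
    (hP : P = RingHom.ker (algebraMap (MvPowerSeries (Fin n) K) κ))
    (d : ℕ) [Algebra (MvPowerSeries (Fin d) K) (MvPowerSeries (Fin n) K ⧸ P)]
    [IsScalarTower K (MvPowerSeries (Fin d) K) (MvPowerSeries (Fin n) K ⧸ P)]
    [Module.Finite (MvPowerSeries (Fin d) K) (MvPowerSeries (Fin n) K ⧸ P)]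
    (hinj : Function.Injective (algebraMap (MvPowerSeries (Fin d) K) (MvPowerSeries (Fin n) K ⧸ P)))
    {L' L : Type u} [Field L'] [Field L]
    [Algebra (MvPowerSeries (Fin d) K) L'] [IsFractionRing (MvPowerSeries (Fin d) K) L']
    [Algebra (MvPowerSeries (Fin n) K ⧸ P) L] [IsFractionRing (MvPowerSeries (Fin n) K ⧸ P) L]
    [Algebra L' L] [Algebra (MvPowerSeries (Fin d) K) L]
    [IsScalarTower (MvPowerSeries (Fin d) K) (MvPowerSeries (Fin n) K ⧸ P) L]
    [IsScalarTower (MvPowerSeries (Fin d) K) L' L] [Algebra.IsSeparable L' L]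
    (δ : MvPowerSeries (Fin n) K →+ κ)
    (hδ : ∀ a b, δ (a * b) = a • δ b + b • δ a) :
    ∃ l : Fin n → κ, ∀ a, algebraMap _ κ a = 0 → δ a = ∑ i, l i * algebraMap _ κ (pderiv K i a) := by
  classical
  set S := MvPowerSeries (Fin n) K with hS
  have hreg : IsRegularLocalRing S := CalgB.PowField.isRegularLocalRing K n
  have hregP : IsRegularLocalRing (Localization.AtPrime P) := S0564.result S P
  have hdom : IsDomain (S ⧸ P) := Ideal.Quotient.isDomain P
  have hlocS : IsLocalRing (S ⧸ P) :=
    IsLocalRing.of_surjective' (Ideal.Quotient.mk P) Ideal.Quotient.mk_surjective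
  have hregd : IsRegularLocalRing (MvPowerSeries (Fin d) K) := CalgB.PowField.isRegularLocalRing K d
  choose y' hy' using fun j : Fin d ↦ Ideal.Quotient.mk_surjective
    (algebraMap (MvPowerSeries (Fin d) K) (S ⧸ P) (X j))
  -- the space of relations
  let Ksub : Submodule κ (Fin n → κ) :=
    { carrier := {l | ∀ a ∈ P, ∑ i, l i * algebraMap S κ (pderiv K i a) = 0}
      add_mem' := by
        intro l l' hl hl' a ha
        have h1 := hl a ha
        have h2 := hl' a ha
        simp only [Pi.add_apply, add_mul, Finset.sum_add_distrib, h1, h2, add_zero]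
      zero_mem' := by
        intro a _
        simp
      smul_mem' := by
        intro c l hl a ha
        have h1 := hl a ha
        simp only [Pi.smul_apply, smul_eq_mul, mul_assoc, ← Finset.mul_sum, h1, mul_zero] }
  have hKmem : ∀ l, l ∈ Ksub ↔ ∀ a ∈ P, ∑ i, l i * algebraMap S κ (toInt (pderiv K i) a) = 0 :=
    fun l ↦ Iff.rfl
  -- the injection
  let Φ : Ksub →ₗ[κ] (Fin d → κ) :=
    { toFun := fun l j ↦ ∑ i, l.1 i * algebraMap S κ (pderiv K i (y' j))
      map_add' := by
        intro l l'
        ext j
        simp [add_mul, Finset.sum_add_distrib]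
      map_smul' := by
        intro c l
        ext j
        simp [mul_assoc, Finset.mul_sum] }
  have hΦ : Function.Injective Φ := by
    rw [← LinearMap.ker_eq_bot, LinearMap.ker_eq_bot']
    rintro ⟨l, hl⟩ hl0
    -- common denominators
    choose a b hb hab using fun i ↦ hfrac (l i)
    let β : S := ∏ i, b i
    have hβ : algebraMap S κ β ≠ 0 := by
      rw [map_prod]
      exact Finset.prod_ne_zero_iff.mpr fun i _ ↦ hb i
    let c : Fin n → S := fun i ↦ a i * ∏ j ∈ Finset.univ.erase i, b j
    have hc : ∀ i, algebraMap S κ (c i) = l i * algebraMap S κ β := by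
      intro i
      have : β = b i * ∏ j ∈ Finset.univ.erase i, b j :=
        (Finset.mul_prod_erase _ _ (Finset.mem_univ i)).symm
      rw [this, map_mul, map_mul, ← mul_assoc, hab i]
    let D₀ : Derivation K S S := ∑ i, c i • pderiv K i
    have hD₀ : ∀ s, D₀ s = ∑ i, c i * pderiv K i s := by
      intro s
      change (Derivation.coeFnAddMonoidHom (∑ i, c i • pderiv K i)) s = _
      rw [map_sum, Finset.sum_apply]
      rfl
    have hD₀κ : ∀ s, algebraMap S κ (D₀ s) = algebraMap S κ β * ∑ i, l i * algebraMap S κ (pderiv K i s) := by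
      intro s
      rw [hD₀, map_sum, Finset.mul_sum]
      refine Finset.sum_congr rfl fun i _ ↦ ?_
      rw [map_mul, hc]
      ring
    have hD₀P : ∀ s, Ideal.Quotient.mk P s = 0 → Ideal.Quotient.mk P (D₀ s) = 0 := by
      intro s hs
      rw [Ideal.Quotient.eq_zero_iff_mem] at hs ⊢
      have h1 : algebraMap S κ (D₀ s) = 0 := by rw [hD₀κ, hl s hs, mul_zero]
      rw [hP]
      exact h1
    let D₁ : Derivation K (S ⧸ P) (S ⧸ P) :=
      Derivation.liftOfSurjective (f := Ideal.Quotient.mkₐ K P) (Ideal.Quotient.mkₐ_surjective K P) (d := D₀) hD₀P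
    have hD₁ : ∀ s, D₁ (Ideal.Quotient.mk P s) = Ideal.Quotient.mk P (D₀ s) := fun s ↦
      Derivation.liftOfSurjective_apply (f := Ideal.Quotient.mkₐ K P) (Ideal.Quotient.mkₐ_surjective K P) (d := D₀) hD₀P s
    have hmem0 : ∀ s, algebraMap S κ s = 0 → Ideal.Quotient.mk P s = 0 := by
      intro s hs
      rw [Ideal.Quotient.eq_zero_iff_mem, hP]
      exact hs
    have hmem1 : ∀ s, Ideal.Quotient.mk P s = 0 → algebraMap S κ s = 0 := by
      intro s hs
      rw [Ideal.Quotient.eq_zero_iff_mem, hP] at hs
      exact hs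
    -- `D₁` kills the power series ring
    have hD₁y : ∀ j, D₁ (algebraMap (MvPowerSeries (Fin d) K) (S ⧸ P) (X j)) = 0 := by
      intro j
      rw [← hy' j, hD₁]
      apply hmem0
      rw [hD₀κ]
      have := congrFun hl0 j
      change ∑ i, l i * algebraMap S κ (pderiv K i (y' j)) = 0 at this
      rw [this, mul_zero]
    have hcomap : (maximalIdeal (S ⧸ P)).comap (algebraMap (MvPowerSeries (Fin d) K) (S ⧸ P)) =
        maximalIdeal (MvPowerSeries (Fin d) K) :=
      IsLocalRing.eq_maximalIdeal (Ideal.isMaximal_comap_of_isIntegral_of_isMaximal _)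
    have hmap : (MvPS.varIdeal (Fin d) K).map (algebraMap (MvPowerSeries (Fin d) K) (S ⧸ P)) ≤
        maximalIdeal (S ⧸ P) := by
      rw [MvPS.varIdeal, Ideal.map_span, Ideal.span_le]
      rintro _ ⟨_, ⟨j, rfl⟩, rfl⟩
      have h1 : (X j : MvPowerSeries (Fin d) K) ∈ maximalIdeal (MvPowerSeries (Fin d) K) := by
        rw [mem_maximalIdeal, mem_nonunits_iff, MvPowerSeries.isUnit_iff_constantCoeff]
        simp
      rw [← hcomap] at h1
      exact h1
    have hNoe : IsNoetherianRing (S ⧸ P) := inferInstance
    have hHaus : IsHausdorff (MvPS.varIdeal (Fin d) K) (S ⧸ P) := by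
      rw [← IsHausdorff.map_algebraMap_iff (S := S ⧸ P)]
      refine IsHausdorff.of_isLocalRing _ _ fun h ↦ ?_
      rw [h, top_le_iff] at hmap
      exact (maximalIdeal.isMaximal (S ⧸ P)).ne_top hmap
    have hE := derivation_eq_zero (D₁.compAlgebraMap (MvPowerSeries (Fin d) K)) (fun j ↦ hD₁y j)
    have hE' : ∀ f : MvPowerSeries (Fin d) K, D₁ (algebraMap _ (S ⧸ P) f) = 0 := hE
    let D₂ : Derivation (MvPowerSeries (Fin d) K) (S ⧸ P) (S ⧸ P) :=
      Derivation.mk'
        { toFun := D₁
          map_add' := map_add D₁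
          map_smul' := fun r x ↦ by
            rw [RingHom.id_apply, Algebra.smul_def, D₁.leibniz, hE', smul_zero, add_zero, Algebra.smul_def,
              smul_eq_mul] }
        (fun a b ↦ D₁.leibniz a b)
    have hD₂ : ∀ x, D₁ x = 0 := fun x ↦ derivation_eq_zero_of_isSeparable (L' := L') (L := L) D₂ x
    ext i
    change l i = 0
    have h1 := hD₂ (Ideal.Quotient.mk P (X i))
    rw [hD₁] at h1
    replace h1 := hmem1 _ h1
    rw [hD₀] at h1
    have h2 : ∑ j, c j * pderiv K j (X i : S) = c i := by
      rw [Finset.sum_eq_single i]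
      · rw [pderiv_X_self, mul_one]
      · intro j _ hj
        rw [pderiv_X_of_ne hj.symm, mul_zero]
      · intro h
        exact (h (Finset.mem_univ i)).elim
    rw [h2, hc] at h1
    exact (mul_eq_zero.mp h1).resolve_right hβ
  have hKr : Module.finrank κ Ksub ≤ d + 0 := by
    refine (LinearMap.finrank_le_finrank_of_injective hΦ).trans ?_
    rw [Module.finrank_fin_fun, add_zero]
  have hdim : ringKrullDim (S ⧸ P) = d := by
    rw [← CalgB.PowField.ringKrullDim_eq K d]
    exact FlatA.DimFin.ringKrullDim_eq_of_isIntegral_of_injective _ _ hinj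
  have hN : ringKrullDim (Localization.AtPrime P) + d ≤ n := by
    rw [IsLocalization.AtPrime.ringKrullDim_eq_height P (Localization.AtPrime P), ← hdim]
    refine (VarietyB.DimRing.height_add_dim_le P).trans ?_
    exact (CalgB.PowField.ringKrullDim_eq K n).le
  obtain ⟨-, h⟩ := NagSurj.exists_combination P hP.symm (fun i ↦ toInt (pderiv K i)) n d 0 hN
    (by simp) Ksub hKmem hKr
  obtain ⟨l, hl⟩ := h (mkInt δ hδ)
  refine ⟨l, fun a ha ↦ hl a ?_⟩
  rw [hP]
  exact ha

end K102.NagSep
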