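import Groth.Agent.Ega41.NagFinal2
import Groth.Agent.S4574

/-!
# Jacobian criterion from a density statement
-/

set_option autoImplicit false

universe u v

namespace K102.NagSep2

open IsLocalRing Groth.Agent.Ega41 Groth.Agent.Ega41.NagFinal

theorem exists_derivations {k R S : Type u} [Field k] [CommRing R] [IsRegularLocalRing R] [Algebra k R]
    [CommRing S] [IsRegularLocalRing S] [Algebra k S] (π : R →ₐ[k] S) (hπ : Function.Surjective π)
    (I : Ideal R) (hker : RingHom.ker π = I)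
    (hI : I ≤ maximalIdeal R) {m : ℕ} (f : Fin m → R) (hf : ∀ i, f i ∈ I)
    (hmin : ∀ g : Fin m → R, ∑ i, g i * f i ∈ maximalIdeal R • I → ∀ i, g i ∈ maximalIdeal R)
    (l : Fin m → ResidueField R) :
    ∃ δ : Derivation ℤ R (ResidueField R), ∀ j, δ (f j) = l j := by
  have hregQ : IsRegularLocalRing (R ⧸ I) := by
    have e1 : (R ⧸ I) ≃+* S :=
      (Ideal.quotEquivOfEq hker.symm).trans (RingHom.quotientKerEquivOfSurjective (f := (π : R →+* S)) hπ)
    exact IsRegularLocalRing.of_ringEquiv e1.symm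
  have hli := NagEasy.linearIndependent_of_regular I hI f hf hmin
  obtain ⟨φ, hφ⟩ := exists_functional hli l
  obtain ⟨δ₁, hδ₁⟩ := NagFS.exists_derivation_cotangent (k := k) φ
  refine ⟨δ₁, fun j => ?_⟩
  rw [← hφ]
  exact hδ₁ ⟨f j, hI (hf j)⟩

section

variable {k A : Type u} [Field k] [CommRing A] [Algebra k A] (𝔭 : Ideal A) [𝔭.IsPrime]
  (R : Type u) [CommRing R] [IsLocalRing R] [Algebra A R]

/-- density of the `k`-derivations of `A` -/
def Dense (k : Type u) {A : Type u} [Field k] [CommRing A] [Algebra k A] (𝔭 : Ideal A)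
    (κ : Type u) [Field κ] [Algebra A κ] : Prop :=
  ∀ (m : ℕ) (f : Fin m → A), (∀ i, f i ∈ 𝔭) →
    ∀ (c : Fin m → κ), (∀ D : Derivation k A A, ∑ j, c j * algebraMap A κ (D (f j)) = 0) →
    ∀ (δ : A →+ κ),
    (∀ a b, δ (a * b) = algebraMap A κ a * δ b + algebraMap A κ b * δ a) → ∑ j, c j * δ (f j) = 0

theorem exists_jacobian (hdens : Dense k 𝔭 (ResidueField R))
    [IsLocalization.AtPrime R 𝔭] {m : ℕ} (f : Fin m → A) (hf : ∀ i, f i ∈ 𝔭)
    (hder : ∀ l : Fin m → ResidueField R, ∃ δ : Derivation ℤ R (ResidueField R),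
      ∀ j, δ (algebraMap A R (f j)) = l j) :
    ∃ D : Fin m → Derivation k A A, Matrix.det (Matrix.of fun i j => D i (f j)) ∉ 𝔭 := by
  classical
  have hc : ∀ c : Fin m → ResidueField R,
      (∀ D : Derivation k A A, ∑ j, c j * algebraMap A (ResidueField R) (D (f j)) = 0) → c = 0 := by
    intro c h
    ext j
    obtain ⟨δ, hδ'⟩ := hder (Pi.single j 1)
    have h1 := hdens m f hf c h
      ((δ : R →+ ResidueField R).comp (algebraMap A R).toAddMonoidHom) (by
        intro a b
        change δ (algebraMap A R (a * b)) = _ * δ (algebraMap A R b) + _ * δ (algebraMap A R a)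
        rw [map_mul, δ.leibniz, Algebra.smul_def, Algebra.smul_def]
        rfl)
    have h2 : ∀ j, ((δ : R →+ ResidueField R).comp (algebraMap A R).toAddMonoidHom) (f j) =
      δ (algebraMap A R (f j)) := fun _ => rfl
    simp only [h2, hδ'] at h1
    simpa [Pi.single_apply] using h1
  obtain ⟨D, hD⟩ := exists_det_ne_zero
    (fun (D : Derivation k A A) j => algebraMap A (ResidueField R) (D (f j))) hc
  refine ⟨D, fun h => hD ?_⟩
  rw [← residue_eq_zero_iff' 𝔭 R, RingHom.map_det] at h
  exact h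

end

section

variable {k A : Type u} [Field k] [CommRing A] [IsRegularLocalRing A] [Algebra k A]
  (q 𝔭 : Ideal A) [𝔭.IsPrime] [(𝔭.map (Ideal.Quotient.mk q)).IsPrime]

theorem jacobian_of_regular (hq : q ≤ 𝔭)
    (hdens : Dense k 𝔭 (ResidueField (Localization.AtPrime 𝔭)))
    (hS : IsRegularLocalRing (Localization.AtPrime (𝔭.map (Ideal.Quotient.mk q)))) :
    ∃ (m : ℕ) (D : Fin m → Derivation k A A) (f : Fin m → A), (∀ i, f i ∈ q) ∧
        q.map (algebraMap A (Localization.AtPrime 𝔭)) =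
          Ideal.span (Set.range fun i => algebraMap A (Localization.AtPrime 𝔭) (f i)) ∧
        Matrix.det (Matrix.of fun i j => D i (f j)) ∉ 𝔭 := by
  classical
  have hregR : IsRegularLocalRing (Localization.AtPrime 𝔭) := Groth.Agent.S0564.result A 𝔭
  obtain ⟨π, hπ, hker⟩ := exists_proj q 𝔭 hq k
  obtain ⟨m, f, hf, hspan, hmin⟩ := exists_min_family (R := Localization.AtPrime 𝔭) q
  have hI : q.map (algebraMap A (Localization.AtPrime 𝔭)) ≤
      maximalIdeal (Localization.AtPrime 𝔭) := by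
    rw [← Localization.AtPrime.map_eq_maximalIdeal]
    exact Ideal.map_mono hq
  have hder := exists_derivations π hπ _ hker hI (fun i => algebraMap A _ (f i))
    (fun i => Ideal.mem_map_of_mem _ (hf i)) hmin
  obtain ⟨D, hD⟩ := exists_jacobian (k := k) 𝔭 (Localization.AtPrime 𝔭) hdens f
    (fun i => hq (hf i)) hder
  exact ⟨m, D, f, hf, hspan, hD⟩

theorem fs_of_jacobian (hA : CAlgX.IsAdicFormallySmooth k A (maximalIdeal A)) (hq : q ≤ 𝔭)
    {m : ℕ} (D : Fin m → Derivation k A A) (f : Fin m → A)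
    (hspan : q.map (algebraMap A (Localization.AtPrime 𝔭)) =
      Ideal.span (Set.range fun i => algebraMap A (Localization.AtPrime 𝔭) (f i)))
    (hdet : Matrix.det (Matrix.of fun i j => D i (f j)) ∉ 𝔭) :
    CAlgX.IsAdicFormallySmooth k (Localization.AtPrime (𝔭.map (Ideal.Quotient.mk q)))
      (maximalIdeal (Localization.AtPrime (𝔭.map (Ideal.Quotient.mk q)))) := by
  classical
  have hR := Groth.Agent.S4574.result hA 𝔭
  obtain ⟨π, hπ, hker⟩ := exists_proj q 𝔭 hq k
  choose D' hD' using fun i => NagEasy.exists_derivation_localization 𝔭 (D i)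
  refine NagEasy.isAdicFormallySmooth_of_det hR π hπ D' (fun i => algebraMap A _ (f i))
    (hker.trans hspan) ?_
  have h1 : Matrix.det (Matrix.of fun i j => D' i (algebraMap A (Localization.AtPrime 𝔭) (f j))) =
      algebraMap A (Localization.AtPrime 𝔭) (Matrix.det (Matrix.of fun i j => D i (f j))) := by
    rw [RingHom.map_det]
    congr 1
    ext i j
    exact hD' i (f j)
  rw [h1]
  exact IsLocalization.map_units (Localization.AtPrime 𝔭) (⟨_, hdet⟩ : 𝔭.primeCompl)

theorem regular_of_fs (hq : q ≤ 𝔭)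
    (h : CAlgX.IsAdicFormallySmooth k (Localization.AtPrime (𝔭.map (Ideal.Quotient.mk q)))
      (maximalIdeal (Localization.AtPrime (𝔭.map (Ideal.Quotient.mk q))))) :
    IsRegularLocalRing (Localization.AtPrime (𝔭.map (Ideal.Quotient.mk q))) := by
  obtain ⟨π, hπ, hker⟩ := exists_proj q 𝔭 hq k
  have hNS : IsNoetherianRing (Localization.AtPrime (𝔭.map (Ideal.Quotient.mk q))) :=
    isNoetherianRing_of_surjective (Localization.AtPrime 𝔭)
      (Localization.AtPrime (𝔭.map (Ideal.Quotient.mk q))) (π : Localization.AtPrime 𝔭 →+* _) hπ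
  exact (NagFS.isAdicFormallySmooth_iff_derivation.mp h).1

theorem tfae (hA : CAlgX.IsAdicFormallySmooth k A (maximalIdeal A)) (hq : q ≤ 𝔭)
    (hdens : Dense k 𝔭 (ResidueField (Localization.AtPrime 𝔭))) :
    [CAlgX.IsAdicFormallySmooth k (Localization.AtPrime (𝔭.map (Ideal.Quotient.mk q)))
        (maximalIdeal (Localization.AtPrime (𝔭.map (Ideal.Quotient.mk q)))),
     ∃ (m : ℕ) (D : Fin m → Derivation k A A)
        (f : Fin m → A), (∀ i, f i ∈ q) ∧
        q.map (algebraMap A (Localization.AtPrime 𝔭)) =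
          Ideal.span (Set.range fun i => algebraMap A (Localization.AtPrime 𝔭) (f i)) ∧
        Matrix.det (Matrix.of fun i j => D i (f j)) ∉ 𝔭,
     IsRegularLocalRing (Localization.AtPrime (𝔭.map (Ideal.Quotient.mk q)))].TFAE := by
  tfae_have 1 → 3 := regular_of_fs q 𝔭 hq
  tfae_have 3 → 2 := jacobian_of_regular q 𝔭 hq hdens
  tfae_have 2 → 1 := by
    rintro ⟨m, D, f, -, hspan, hdet⟩
    exact fs_of_jacobian q 𝔭 hA hq D f hspan hdet
  tfae_finish

end

end K102.NagSep2
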