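import Mathlib.RingTheory.AdjoinRoot
import Mathlib.RingTheory.TensorProduct.Maps
import Mathlib.LinearAlgebra.Dimension.Constructions
import Mathlib.LinearAlgebra.Dimension.Free
import Mathlib.Algebra.MvPolynomial.Equiv
import Mathlib.RingTheory.Ideal.Quotient.Operations
import Mathlib.LinearAlgebra.FreeModule.StrongRankCondition

/-!
# Quotients of polynomial rings by monic polynomials in separate variables

`free_and_finrank`: `A[T_1, …, T_r]/(F_1(T_1), …, F_r(T_r))` is free of rank `∏ deg F_i`.
-/

set_option autoImplicit false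
universe u

open TensorProduct

namespace K102.SepVar

/-- The ideal generated by the polynomials `F_i (T_i)`. -/
noncomputable abbrev idl {A : Type u} [CommRing A] {r : ℕ} (F : Fin r → Polynomial A) :
    Ideal (MvPolynomial (Fin r) A) :=
  Ideal.span (Set.range fun i => Polynomial.aeval (MvPolynomial.X i : MvPolynomial (Fin r) A) (F i))

/-- The quotient ring. -/
abbrev Q {A : Type u} [CommRing A] {r : ℕ} (F : Fin r → Polynomial A) : Type u :=
  MvPolynomial (Fin r) A ⧸ idl F

/-- The class of the variable. -/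
noncomputable def t {A : Type u} [CommRing A] {r : ℕ} (F : Fin r → Polynomial A) (i : Fin r) : Q F :=
  Ideal.Quotient.mkₐ A (idl F) (MvPolynomial.X i)

lemma aeval_t {A : Type u} [CommRing A] {r : ℕ} (F : Fin r → Polynomial A) (i : Fin r) :
    Polynomial.aeval (t F i) (F i) = 0 := by
  rw [t, Polynomial.aeval_algHom_apply]
  exact Ideal.Quotient.eq_zero_iff_mem.mpr (Ideal.subset_span ⟨i, rfl⟩)

/-- The universal property. -/
noncomputable def lift {A : Type u} [CommRing A] {r : ℕ} (F : Fin r → Polynomial A)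
    {B : Type u} [CommRing B] [Algebra A B] (b : Fin r → B)
    (hb : ∀ i, Polynomial.aeval (b i) (F i) = 0) : Q F →ₐ[A] B :=
  Ideal.Quotient.liftₐ (idl F) (MvPolynomial.aeval b) (by
    have : idl F ≤ RingHom.ker (MvPolynomial.aeval (R := A) b) := by
      rw [Ideal.span_le]
      rintro _ ⟨i, rfl⟩
      change MvPolynomial.aeval b (Polynomial.aeval (MvPolynomial.X i) (F i)) = 0
      rw [← Polynomial.aeval_algHom_apply, MvPolynomial.aeval_X]
      exact hb i
    exact fun a ha => this ha)

lemma lift_t {A : Type u} [CommRing A] {r : ℕ} (F : Fin r → Polynomial A)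
    {B : Type u} [CommRing B] [Algebra A B] (b : Fin r → B)
    (hb : ∀ i, Polynomial.aeval (b i) (F i) = 0) (i : Fin r) : lift F b hb (t F i) = b i := by
  change MvPolynomial.aeval b (MvPolynomial.X i) = b i
  rw [MvPolynomial.aeval_X]

lemma hom_ext {A : Type u} [CommRing A] {r : ℕ} {F : Fin r → Polynomial A}
    {B : Type u} [CommRing B] [Algebra A B] {f g : Q F →ₐ[A] B}
    (h : ∀ i, f (t F i) = g (t F i)) : f = g := by
  apply Ideal.Quotient.algHom_ext
  apply MvPolynomial.algHom_ext
  exact h

/-- The quotient in zero variables. -/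
noncomputable def zeroEquiv {A : Type u} [CommRing A] (F : Fin 0 → Polynomial A) : Q F ≃ₗ[A] A :=
  (AlgEquiv.ofAlgHom (lift F (B := A) Fin.elim0 (fun i => i.elim0)) (Algebra.ofId A (Q F))
    (by ext) (hom_ext fun i => i.elim0)).toLinearEquiv

/-- The images of the variables in the tensor product. -/
noncomputable def pt {A : Type u} [CommRing A] {n : ℕ} (F : Fin (n + 1) → Polynomial A) :
    Fin (n + 1) → AdjoinRoot (F 0) ⊗[A] Q (fun i => F i.succ) :=
  Fin.cons (AdjoinRoot.root (F 0) ⊗ₜ[A] (1 : Q (fun i => F i.succ)))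
    (fun i => (1 : AdjoinRoot (F 0)) ⊗ₜ[A] t (fun i => F i.succ) i)

lemma pt_zero {A : Type u} [CommRing A] {n : ℕ} (F : Fin (n + 1) → Polynomial A) :
    pt F 0 = AdjoinRoot.root (F 0) ⊗ₜ[A] (1 : Q (fun i => F i.succ)) := rfl

lemma pt_succ {A : Type u} [CommRing A] {n : ℕ} (F : Fin (n + 1) → Polynomial A) (i : Fin n) :
    pt F i.succ = (1 : AdjoinRoot (F 0)) ⊗ₜ[A] t (fun i => F i.succ) i := rfl

/-- Adding one more variable is tensoring with `AdjoinRoot`. -/
noncomputable def succEquiv {A : Type u} [CommRing A] {n : ℕ} (F : Fin (n + 1) → Polynomial A) :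
    Q F ≃ₐ[A] AdjoinRoot (F 0) ⊗[A] Q (fun i => F i.succ) :=
  AlgEquiv.ofAlgHom
    (lift F (pt F) (by
      intro i
      refine Fin.cases ?_ (fun j => ?_) i
      · rw [pt_zero]
        change Polynomial.aeval ((Algebra.TensorProduct.includeLeft : AdjoinRoot (F 0) →ₐ[A]
          AdjoinRoot (F 0) ⊗[A] Q (fun i => F i.succ)) (AdjoinRoot.root (F 0))) (F 0) = 0
        rw [Polynomial.aeval_algHom_apply, AdjoinRoot.aeval_eq, AdjoinRoot.mk_self, map_zero]
      · rw [pt_succ]
        change Polynomial.aeval ((Algebra.TensorProduct.includeRight : Q (fun i => F i.succ) →ₐ[A]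
          AdjoinRoot (F 0) ⊗[A] Q (fun i => F i.succ)) (t (fun i => F i.succ) j)) (F j.succ) = 0
        rw [Polynomial.aeval_algHom_apply, aeval_t (fun i => F i.succ) j, map_zero]))
    (Algebra.TensorProduct.lift
      (AdjoinRoot.liftAlgHom (F 0) (Algebra.ofId A _) (t F 0) (aeval_t F 0))
      (lift (fun i : Fin n => F i.succ) (fun i => t F i.succ) (fun i => aeval_t F i.succ))
      (fun _ _ => Commute.all _ _))
    (by
      apply Algebra.TensorProduct.ext
      · apply AdjoinRoot.algHom_ext
        simp [lift_t, pt_zero]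
      · refine hom_ext (F := fun i : Fin n => F i.succ)
          (B := AdjoinRoot (F 0) ⊗[A] Q (fun i => F i.succ)) (fun i => ?_)
        simp [lift_t, pt_succ])
    (by
      apply hom_ext
      intro i
      refine Fin.cases ?_ (fun j => ?_) i
      · simp [lift_t, pt_zero]
      · simp [lift_t, pt_succ])

theorem free_and_finrank {A : Type u} [CommRing A] [Nontrivial A]
    {r : ℕ} (F : Fin r → Polynomial A) (hF : ∀ i, (F i).Monic) :
    Module.Free A (Q F) ∧ Module.finrank A (Q F) = Finset.univ.prod fun i => (F i).natDegree := by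
  induction r with
  | zero =>
    refine ⟨Module.Free.of_equiv (zeroEquiv F).symm, ?_⟩
    rw [(zeroEquiv F).finrank_eq, Module.finrank_self, Finset.univ_eq_empty, Finset.prod_empty]
  | succ n ih =>
    obtain ⟨h1, h2⟩ := ih (fun i => F i.succ) (fun i => hF i.succ)
    have h3 : Module.Free A (AdjoinRoot (F 0)) :=
      Module.Free.of_basis (AdjoinRoot.powerBasis' (hF 0)).basis
    have h4 : Module.finrank A (AdjoinRoot (F 0)) = (F 0).natDegree := by
      rw [Module.finrank_eq_card_basis (AdjoinRoot.powerBasis' (hF 0)).basis, Fintype.card_fin,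
        AdjoinRoot.powerBasis'_dim]
    refine ⟨Module.Free.of_equiv (succEquiv F).symm.toLinearEquiv, ?_⟩
    rw [(succEquiv F).toLinearEquiv.finrank_eq, Module.finrank_tensorProduct, Fin.prod_univ_succ,
      h4, h2]

end K102.SepVar
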