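import Groth.Agent.S2475
import Groth.Agent.EGA41.K102.FieldInj

/-!
# Separating absolute differentials by a cofinal family of subfields
-/

set_option autoImplicit false
universe u v

namespace K102.SubSep

open TensorProduct

/-- Compositions of comparison maps between differentials of one ring over several bases. -/
theorem map_map (R S T k : Type*) [CommRing R] [CommRing S] [CommRing T] [CommRing k] [Algebra R k] [Algebra S k]
    [Algebra T k] [Algebra R S] [Algebra S T] [Algebra R T] [IsScalarTower R S k] [IsScalarTower S T k]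
    [IsScalarTower R T k] (ω : Ω[k⁄R]) :
    KaehlerDifferential.map S T k k (KaehlerDifferential.map R S k k ω) = KaehlerDifferential.map R T k k ω := by
  have h : (KaehlerDifferential.map S T k k).comp (KaehlerDifferential.map R S k k) =
      KaehlerDifferential.map R T k k := by
    apply Derivation.liftKaehlerDifferential_unique
    ext x
    simp [KaehlerDifferential.map_D]
  exact LinearMap.congr_fun h ω

theorem formallyUnramified_bot (k : Type u) [Field k] (p : ℕ) [Fact p.Prime] [CharP k p] :
    Algebra.FormallyUnramified ℤ (⊥ : Subfield k) := by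
  have h : Function.Surjective (algebraMap ℤ (⊥ : Subfield k)) := by
    intro x
    obtain ⟨n, hn⟩ := (mem_bot_iff_intCast p k).mp x.2
    exact ⟨n, Subtype.ext (by simpa using hn)⟩
  exact Algebra.FormallyUnramified.of_surjective (Algebra.ofId ℤ (⊥ : Subfield k)) h

theorem map_bot_injective (k : Type u) [Field k] (p : ℕ) [Fact p.Prime] [CharP k p] :
    Function.Injective (KaehlerDifferential.map ℤ (⊥ : Subfield k) k k) := by
  have := formallyUnramified_bot k p
  have h0 : Subsingleton (Ω[(⊥ : Subfield k)⁄ℤ]) := inferInstance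
  rw [injective_iff_map_eq_zero]
  intro ω hω
  obtain ⟨x, rfl⟩ := (KaehlerDifferential.exact_mapBaseChange_map ℤ (⊥ : Subfield k) k ω).mp hω
  rw [Subsingleton.elim x 0, map_zero]

theorem separating {k : Type u} [Field k] (p : ℕ) [Fact p.Prime] [CharP k p]
    {ι : Type u} [Preorder ι] [IsDirected ι (fun a b => a ≤ b)] [Nonempty ι] (kα : ι → Subfield k)
    (hanti : Antitone kα) (hint : ⨅ α, (kα α ⊔ (frobenius k p).fieldRange) = (frobenius k p).fieldRange)
    (α₀ : ι) (ω : Ω[k⁄ℤ]) (h : ∀ α, α₀ ≤ α → KaehlerDifferential.map ℤ (kα α) k k ω = 0) : ω = 0 := by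
  classical
  let k₀ := (⊥ : Subfield k)
  let J := {α : ι // α₀ ≤ α}
  have : Nonempty J := ⟨⟨α₀, le_rfl⟩⟩
  have : IsDirected J (· ≤ ·) := ⟨fun a b => by
    obtain ⟨c, hac, hbc⟩ := exists_ge_ge a.1 b.1
    exact ⟨⟨c, a.2.trans hac⟩, hac, hbc⟩⟩
  let k' : J → IntermediateField k₀ k := fun j => (kα j.1).toIntermediateField
    (fun x => (bot_le : (⊥ : Subfield k) ≤ kα j.1) x.2)
  have hk' : Antitone k' := fun a b hab x hx => hanti hab hx
  have hF : (IntermediateField.adjoin k₀ (Set.range fun y : k => y ^ p)).toSubfield =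
      (frobenius k p).fieldRange := by
    rw [IntermediateField.adjoin_toSubfield]
    apply le_antisymm
    · rw [Subfield.closure_le]
      rintro x (⟨y, rfl⟩ | ⟨y, rfl⟩)
      · exact (bot_le : (⊥ : Subfield k) ≤ (frobenius k p).fieldRange) y.2
      · exact ⟨y, rfl⟩
    · rintro _ ⟨y, rfl⟩
      exact Subfield.subset_closure (Or.inr ⟨y, rfl⟩)
  have hcond : (⨅ i, k' i ⊔ IntermediateField.adjoin k₀ (Set.range fun y : k => y ^ p)) =
      IntermediateField.adjoin k₀ (Set.range fun y : k => y ^ p) := by
    apply IntermediateField.toSubfield_injective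
    rw [IntermediateField.iInf_toSubfield]
    simp_rw [IntermediateField.sup_toSubfield, hF]
    have : (⨅ i : J, (k' i).toSubfield ⊔ (frobenius k p).fieldRange) =
        ⨅ α, (kα α ⊔ (frobenius k p).fieldRange) := by
      apply le_antisymm
      · refine le_iInf fun α => ?_
        obtain ⟨c, hac, hbc⟩ := exists_ge_ge α₀ α
        exact (iInf_le _ (⟨c, hac⟩ : J)).trans (sup_le_sup_right (hanti hbc) _)
      · exact le_iInf fun j => iInf_le _ j.1
    rw [this, hint]
  have key := (Groth.Agent.S2475.result p k' hk').mp hcond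
  apply map_bot_injective k p
  rw [map_zero]
  refine key _ fun i => ?_
  let _ : Algebra (kα i.1) (k' i) := (RingHom.id (kα i.1) : (kα i.1) →+* (k' i)).toAlgebra
  have : IsScalarTower (kα i.1) (k' i) k := .of_algebraMap_eq fun x => rfl
  have h1 := map_map ℤ (kα i.1) (k' i) k ω
  have h2 := map_map ℤ k₀ (k' i) k ω
  rw [h i.1 i.2, map_zero] at h1
  rw [h2, ← h1]

/-- Comparison of the maps `K ⊗ Ω_k → K ⊗ Ω_A` over `ℤ` and over `R`. -/
theorem naturality (R k A V : Type*) [CommRing R] [CommRing k] [CommRing A] [Algebra R k] [Algebra k A] [Algebra R A]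
    [IsScalarTower R k A] [AddCommGroup V] [Module A V] (x : V ⊗[A] (A ⊗[k] Ω[k⁄ℤ])) :
    (KaehlerDifferential.mapBaseChange R k A).lTensor V
      (((KaehlerDifferential.map ℤ R k k).baseChange A).lTensor V x) =
    ((KaehlerDifferential.map ℤ R A A).lTensor V)
      ((KaehlerDifferential.mapBaseChange ℤ k A).lTensor V x) := by
  rw [← LinearMap.comp_apply, ← LinearMap.comp_apply, ← LinearMap.lTensor_comp, ← LinearMap.lTensor_comp]
  congr 2
  apply TensorProduct.AlgebraTensorModule.ext
  intro a ω
  have h : (KaehlerDifferential.map R R k A).comp (KaehlerDifferential.map ℤ R k k) =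
      ((KaehlerDifferential.map ℤ R A A).restrictScalars k).comp (KaehlerDifferential.map ℤ ℤ k A) := by
    apply Derivation.liftKaehlerDifferential_unique
    ext x
    simp [KaehlerDifferential.map_D]
  have h' := LinearMap.congr_fun h ω
  rw [LinearMap.comp_apply, LinearMap.comp_apply, LinearMap.baseChange_tmul,
    KaehlerDifferential.mapBaseChange_tmul, KaehlerDifferential.mapBaseChange_tmul, map_smul]
  congr 1

end K102.SubSep
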